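import Groth.Agent.L12.ExtSh.Filtration

/-!
# Exterior powers of an extension with invertible quotient
-/

set_option autoImplicit false
set_option linter.style.haveILetI false
set_option backward.isDefEq.respectTransparency false
set_option backward.isDefEq.respectTransparency.types false

universe u

open CategoryTheory CategoryTheory.Limits AlgebraicGeometry TopologicalSpace Opposite
open Groth.L12.ExtSh Groth.L00.Tensor

noncomputable section

namespace Groth.L15.PnHodge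

variable {X : Scheme.{u}}

theorem isQCoh_of_locFree {E : X.Modules} (hE : FlatMod.IsFinLocFree E) : Coh.IsQCoh E := by
  obtain ⟨d, -⟩ := (Groth.L18.LFP.isFP_of_isFinLocFree E hE).exists_quasicoherentData
  exact d.isQuasicoherent

theorem locFree_of_rank {E : X.Modules} {r : ℕ} (hE : FlatMod.IsFinLocFreeOfRank r E) : FlatMod.IsFinLocFree E :=
  fun x => (hE x).imp fun _ h => ⟨r, h⟩

theorem isExtPow_zero' (E : X.Modules) : ExtPow.IsExtPow 0 E (Coh.structureModule X) :=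
  ⟨fun U => (exteriorPower.zeroEquiv Γ(X, U.1) (E.val.obj (op U.1))).symm, fun U V h v => by
    show X.presheaf.map (homOfLE h).op
        ((exteriorPower.zeroEquiv Γ(X, U.1) (E.val.obj (op U.1))) (exteriorPower.ιMulti _ 0 v)) =
      (exteriorPower.zeroEquiv Γ(X, V.1) (E.val.obj (op V.1))) (exteriorPower.ιMulti _ 0 _)
    rw [exteriorPower.zeroEquiv_ιMulti, exteriorPower.zeroEquiv_ιMulti, map_one]⟩

theorem isExtPow_one' (E : X.Modules) : ExtPow.IsExtPow 1 E E :=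
  ⟨fun U => (exteriorPower.oneEquiv Γ(X, U.1) (E.val.obj (op U.1))).symm, fun U V h v => by
    simp only [LinearEquiv.symm_symm, exteriorPower.oneEquiv_ιMulti]⟩

theorem isIso_left {S : ShortComplex X.Modules} (hS : S.ShortExact) (h : IsZero S.X₃) :
    Nonempty (S.X₁ ≅ S.X₂) := by
  haveI := hS.mono_f
  haveI : Epi S.f := hS.exact.epi_f (h.eq_of_tgt _ _)
  haveI : IsIso S.f := isIso_of_mono_of_epi S.f
  exact ⟨asIso S.f⟩

theorem isIso_right {S : ShortComplex X.Modules} (hS : S.ShortExact) (h : IsZero S.X₁) :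
    Nonempty (S.X₂ ≅ S.X₃) := by
  haveI := hS.epi_g
  haveI : Mono S.g := hS.exact.mono_g (h.eq_of_src _ _)
  haveI : IsIso S.g := isIso_of_mono_of_epi S.g
  exact ⟨asIso S.g⟩

theorem isZero_of_rank_zero' {E : X.Modules} (hE : FlatMod.IsFinLocFreeOfRank 0 E) : IsZero E := by
  choose U hx e using hE
  refine Groth.L21.Mod.isZero_of_restrict (fun x : X => (U x).ι) (fun x => ⟨x, ⟨x, hx x⟩, rfl⟩) E fun x => ?_
  refine IsZero.of_iso ?_ (e x).some
  rw [IsZero.iff_id_eq_zero]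
  exact Sigma.hom_ext _ _ fun i => i.elim0

theorem isZero_wedge {E L : X.Modules} {r j : ℕ} (hE : FlatMod.IsFinLocFreeOfRank r E)
    (hL : ExtPow.IsExtPow j E L) (h : r < j) : IsZero L := by
  have h' := isFinLocFreeOfRank_of_isExtPow hE hL
  rw [Nat.choose_eq_zero_of_lt h] at h'
  exact isZero_of_rank_zero' h'

/-- `0 → Λ^{p+1} S₁ → Λ^{p+1} S₂ → Λ^p S₁ ⊗ S₃ → 0` for an invertible `S₃`. -/
theorem exists_extPow_seq {S : ShortComplex X.Modules} (hS : S.ShortExact) (h₁ : FlatMod.IsFinLocFree S.X₁)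
    (h₂ : FlatMod.IsFinLocFree S.X₂) (h₃ : FlatMod.IsFinLocFreeOfRank 1 S.X₃) (p : ℕ) {P Q M : X.Modules}
    (hP : ExtPow.IsExtPow (p + 1) S.X₁ P) (hQ : ExtPow.IsExtPow p S.X₁ Q)
    (hM : ExtPow.IsExtPow (p + 1) S.X₂ M) :
    ∃ T : ShortComplex X.Modules, T.ShortExact ∧ Nonempty (T.X₁ ≅ P) ∧ Nonempty (T.X₂ ≅ M) ∧
      Nonempty (T.X₃ ≅ CohB1.tensorMod Q S.X₃) := by
  haveI := isQCoh_of_locFree h₁
  haveI := isQCoh_of_locFree h₂
  haveI := isQCoh_of_locFree (locFree_of_rank h₃)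
  obtain ⟨φP, hφP⟩ := hP
  obtain ⟨φQ, hφQ⟩ := hQ
  obtain ⟨φ0, hφ0⟩ := isExtPow_zero' S.X₃
  obtain ⟨φ1, hφ1⟩ := isExtPow_one' S.X₃
  obtain ⟨a, b, w, hab⟩ := exists_shortExact (i := p + 1) (j := 0) (n := p + 1) S φP φ0 hφP hφ0 hS
    (by omega) h₁ (locFree_of_rank h₃)
  obtain ⟨eP⟩ := isIso_right hab (isZero_filMod S (by omega))
  obtain ⟨a', b', w', hab'⟩ := exists_shortExact (i := p) (j := 1) (n := p + 1) S φQ φ1 hφQ hφ1 hS
    (by omega) h₁ (locFree_of_rank h₃)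
  have key : ∀ d i : ℕ, i + d = p → Nonempty (filMod S (p + 1) p ≅ filMod S (p + 1) i) := by
    intro d
    induction d with
    | zero =>
      intro i hi
      obtain rfl : i = p := by omega
      exact ⟨Iso.refl _⟩
    | succ d ih =>
      intro i hi
      obtain ⟨e⟩ := ih (i + 1) (by omega)
      obtain ⟨φ', hφ'⟩ := isExtPow_wedgeMod S.X₁ i
      obtain ⟨φ'', hφ''⟩ := isExtPow_wedgeMod S.X₃ (d + 2)
      obtain ⟨a'', b'', w'', hab''⟩ := exists_shortExact (i := i) (j := d + 2) (n := p + 1) S φ' φ'' hφ' hφ'' hS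
        (by omega) h₁ (locFree_of_rank h₃)
      obtain ⟨e'⟩ := isIso_left hab''
        (Functor.map_isZero (tensorLeftF (wedgeMod S.X₁ i))
          (isZero_wedge h₃ (isExtPow_wedgeMod S.X₃ (d + 2)) (by omega)))
      exact ⟨e ≪≫ e'⟩
  obtain ⟨e⟩ := key p 0 (by omega)
  obtain ⟨e₀⟩ := nonempty_filMod_zero_iso S hM
  exact ⟨_, hab', ⟨eP ≪≫ tensorUnitRight P⟩, ⟨e ≪≫ e₀⟩, ⟨Iso.refl _⟩⟩

end Groth.L15.PnHodge
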