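import Groth.Agent.L15.PnHodge.Main
import Groth.Agent.L16.ProjSpace.TopCoh
import Groth.Agent.L16.ProjSpace.Sections
import Groth.Agent.L03.PlanePoints
import Groth.Agent.L00.TensorQCoh

/-!
# Hodge cohomology of projective space
-/

set_option autoImplicit false
set_option linter.style.haveILetI false
set_option backward.isDefEq.respectTransparency false
set_option backward.isDefEq.respectTransparency.types false

universe u

open CategoryTheory CategoryTheory.Limits AlgebraicGeometry TopologicalSpace Opposite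
open Groth.L16.CohLinear
open Groth.L16.ProjSpace (subsingleton_HH_twist nonempty_H0_twist_linearEquiv nonempty_HH_top_linearEquiv)

noncomputable section

namespace Groth.L15.PnHodge

variable (n : ℕ) (A : Type u) [CommRing A] [QuasiSeparated (CohB1.ProjSpace.toSpec n A)]

local notation "H" => Coh.HH (CohB1.ProjSpace n A)

theorem subsingleton_congr {M N : (CohB1.ProjSpace n A).Modules} (e : M ≅ N) (q : ℕ) (h : Subsingleton (H M q)) :
    Subsingleton (H N q) :=
  (hhIso A e q).symm.toEquiv.subsingleton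

theorem om_high {p : ℕ} (d : ℤ) (hp : n < p) (q : ℕ) : Subsingleton (H (Om n A p d) q) :=
  subsingleton_of_forall_eq 0 fun x => by
    rw [← hmap_id q x, show 𝟙 (Om n A p d) = 0 from (isZero_om n A d hp).eq_of_src _ _, hmap_zero']

/-- `H^q(Ω^p(k)) = 0` for `k, q > 0`. -/
theorem om_pos (k : ℤ) (hk : 0 < k) : ∀ (m p q : ℕ), n + 1 - p = m → 0 < q → Subsingleton (H (Om n A p k) q) := by
  intro m
  induction m with
  | zero => exact fun p q hm _ => om_high n A k (by omega) q
  | succ m ih =>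
    intro p q hm hq
    obtain ⟨S, hS, ⟨e₁⟩, ⟨Z⟩, ⟨e₃⟩⟩ := exists_seq n A p k
    refine subsingleton_congr n A e₃ q (van_right hS (subsingleton_sum Z q ?_) ?_)
    · exact subsingleton_HH_twist n A _ q (by omega) (by omega)
    · exact subsingleton_congr n A e₁.symm _ (ih (p + 1) (q + 1) (by omega) (by omega))

/-- `H^q(Ω^p) = 0` for `p ≠ q`. -/
theorem om_diag_ne (hn : 1 ≤ n) : ∀ (p q : ℕ), p ≠ q → Subsingleton (H (Om n A p 0) q) := by
  intro p
  induction p with
  | zero =>
    intro q hq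
    obtain ⟨e⟩ := nonempty_om_zero n A 0
    exact subsingleton_congr n A e.symm q (subsingleton_HH_twist n A 0 q (by omega) (by omega))
  | succ p ih =>
    intro q hq
    rcases lt_or_ge n (p + 1) with h | h
    · exact om_high n A 0 h q
    obtain ⟨S, hS, ⟨e₁⟩, ⟨Z⟩, ⟨e₃⟩⟩ := exists_seq n A p 0
    have h₂ : ∀ r, Subsingleton (H S.X₂ r) := fun r =>
      subsingleton_sum Z r (subsingleton_HH_twist n A _ r (by omega) (by omega))
    refine subsingleton_congr n A e₁ q ?_
    cases q with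
    | zero => exact van_left_zero hS (h₂ 0)
    | succ q => exact van_left hS (subsingleton_congr n A e₃.symm q (ih q (by omega))) (h₂ _)

theorem nonempty_H0_zero : Nonempty (H (T n A 0) 0 ≃ₗ[A] A) := by
  obtain ⟨e⟩ := nonempty_H0_twist_linearEquiv (n := n) (R := A) 0
  let f : A →ₗ[A] ↥(MvPolynomial.homogeneousSubmodule (Fin (n + 1)) A 0) :=
    LinearMap.toSpanSingleton A _ ⟨1, MvPolynomial.isHomogeneous_one _ _⟩
  refine ⟨e.trans (LinearEquiv.ofBijective f ⟨fun a b h => ?_, fun P => ⟨MvPolynomial.coeff 0 P.1, ?_⟩⟩).symm⟩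
  · simpa [f] using congrArg (fun P => MvPolynomial.coeff 0 P.1) h
  · refine Subtype.ext ?_
    obtain ⟨P, hP⟩ := P
    show MvPolynomial.coeff 0 P • (1 : MvPolynomial (Fin (n + 1)) A) = P
    rw [← Algebra.algebraMap_eq_smul_one, MvPolynomial.algebraMap_eq, ← MvPolynomial.homogeneousComponent_zero,
      MvPolynomial.homogeneousComponent_of_mem hP, if_pos rfl]

/-- `H^p(Ω^p) ≅ A`. -/
theorem om_diag (hn : 1 ≤ n) : ∀ p : ℕ, p ≤ n → Nonempty (H (Om n A p 0) p ≃ₗ[A] A) := by
  intro p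
  induction p with
  | zero =>
    intro _
    obtain ⟨e⟩ := nonempty_om_zero n A 0
    obtain ⟨e'⟩ := nonempty_H0_zero n A
    exact ⟨(hhIso A e 0).trans e'⟩
  | succ p ih =>
    intro hp
    obtain ⟨S, hS, ⟨e₁⟩, ⟨Z⟩, ⟨e₃⟩⟩ := exists_seq n A p 0
    have h₂ : ∀ r, Subsingleton (H S.X₂ r) := fun r =>
      subsingleton_sum Z r (subsingleton_HH_twist n A _ r (by omega) (by omega))
    obtain ⟨δ⟩ := nonempty_delta_equiv A hS (h₂ p) (h₂ (p + 1))
    obtain ⟨e⟩ := ih (by omega)
    exact ⟨((hhIso A e₁ (p + 1)).symm.trans δ.symm).trans ((hhIso A e₃ p).trans e)⟩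

theorem qcoh_X {M : (CohB1.ProjSpace n A).Modules} {p : ℕ} {d : ℤ} (e : M ≅ Om n A p d) : Coh.IsQCoh M := by
  haveI : Coh.IsQCoh (T n A d) := Groth.L16.ProjTwist.isQCoh_twist (CohB1.polyGrading n A) _
  haveI : Coh.IsQCoh (Wp n A p) := inferInstance
  exact (SheafOfModules.isQuasicoherent (CohB1.ProjSpace n A).ringCatSheaf).prop_of_iso e.symm
    (Groth.L00.Tensor.isQCoh_tensorMod (Wp n A p) (T n A d))

/-- `H^q(Ω^p(k)) = 0` for negative twists outside the top degree. -/
theorem om_neg (k : ℤ) (hk : k < 0) : ∀ (p q : ℕ), ¬(q = n ∧ k < (p : ℤ) - n) →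
    Subsingleton (H (Om n A p k) q) := by
  intro p
  induction p with
  | zero =>
    intro q hq
    obtain ⟨e⟩ := nonempty_om_zero n A k
    exact subsingleton_congr n A e.symm q (subsingleton_HH_twist n A k q (by omega) (by omega))
  | succ p ih =>
    intro q hq
    rcases lt_or_ge n (p + 1) with h | h
    · exact om_high n A k h q
    obtain ⟨S, hS, ⟨e₁⟩, ⟨Z⟩, ⟨e₃⟩⟩ := exists_seq n A p k
    have h₂ : Subsingleton (H S.X₂ q) :=
      subsingleton_sum Z q (subsingleton_HH_twist n A _ q (by omega) (by omega))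
    refine subsingleton_congr n A e₁ q ?_
    cases q with
    | zero => exact van_left_zero hS h₂
    | succ q =>
      rcases lt_or_ge q n with hqn | hqn
      · exact van_left hS (subsingleton_congr n A e₃.symm q (ih q (by omega))) h₂
      · haveI := qcoh_X n A e₁
        exact Groth.L16.ProjSpace.subsingleton_HH_of_lt n A S.X₁ (q + 1) (by omega)

section Field

variable (k : Type u) [Field k] [QuasiSeparated (CohB1.ProjSpace.toSpec n k)]

theorem finite_finrank_T (d : ℕ) :
    Module.Finite k (Coh.HH (CohB1.ProjSpace n k) (T n k (d : ℤ)) 0) ∧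
      Module.finrank k (Coh.HH (CohB1.ProjSpace n k) (T n k (d : ℤ)) 0) = (d + n).choose n := by
  obtain ⟨e⟩ := nonempty_H0_twist_linearEquiv (n := n) (R := k) d
  haveI := (Groth.L03.PlanePoints.finrank_homogeneous (F := k) n d).1
  exact ⟨Module.Finite.equiv e.symm, e.finrank_eq.trans (Groth.L03.PlanePoints.finrank_homogeneous (F := k) n d).2⟩

theorem finite_finrank_T_top (d : ℕ) :
    Module.Finite k (Coh.HH (CohB1.ProjSpace n k) (T n k (-((n : ℤ) + 1 + d))) n) ∧
      Module.finrank k (Coh.HH (CohB1.ProjSpace n k) (T n k (-((n : ℤ) + 1 + d))) n) = (d + n).choose n := by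
  obtain ⟨e⟩ := nonempty_HH_top_linearEquiv n d k
  haveI := (Groth.L03.PlanePoints.finrank_homogeneous (F := k) n d).1
  exact ⟨Module.Finite.equiv e.symm, e.finrank_eq.trans (Groth.L03.PlanePoints.finrank_homogeneous (F := k) n d).2⟩

theorem finite_finrank_sum {N M : (CohB1.ProjSpace n k).Modules} {c : ℕ} (Z : SumOf N M c) (q : ℕ)
    [Module.Finite k (Coh.HH (CohB1.ProjSpace n k) M q)] :
    Module.Finite k (Coh.HH (CohB1.ProjSpace n k) N q) ∧
      Module.finrank k (Coh.HH (CohB1.ProjSpace n k) N q) =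
        c * Module.finrank k (Coh.HH (CohB1.ProjSpace n k) M q) := by
  obtain ⟨e⟩ := nonempty_hh_sum k Z q
  refine ⟨Module.Finite.equiv e.symm, e.finrank_eq.trans ?_⟩
  rw [Module.finrank_pi_fintype, Finset.sum_const, Finset.card_univ, Fintype.card_fin, smul_eq_mul]

theorem bott_id_zero {r q d : ℕ} (hd : q + 1 ≤ d) (hr : q + 1 ≤ r) :
    (d + r - (q + 1)).choose d * (d - 1).choose (q + 1) + (d + r - q).choose d * (d - 1).choose q =
      (r + 1).choose (q + 1) * (d - (q + 1) + r).choose r := by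
  obtain ⟨e, rfl⟩ := Nat.exists_eq_add_of_le hd
  obtain ⟨b, rfl⟩ := Nat.exists_eq_add_of_le hr
  have hb : ∀ a b : ℕ, ((a + b).choose a : ℚ) = ((a + b).factorial : ℚ) / (a.factorial * b.factorial) := fun a b => by
    rw [Nat.cast_choose ℚ (Nat.le_add_right a b), Nat.add_sub_cancel_left]
  rw [show q + 1 + e + (q + 1 + b) - (q + 1) = (q + 1 + e) + b by omega,
    show q + 1 + e + (q + 1 + b) - q = (q + 1 + e) + (b + 1) by omega,
    show q + 1 + e - 1 = q + e by omega,
    show q + 1 + e - (q + 1) + (q + 1 + b) = (q + 1 + b) + e by omega,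
    show q + 1 + b + 1 = (q + 1) + (b + 1) by omega]
  suffices h : (((q + 1 + e + b).choose (q + 1 + e) * (q + e).choose (q + 1) +
      (q + 1 + e + (b + 1)).choose (q + 1 + e) * (q + e).choose q : ℕ) : ℚ) =
      (((q + 1 + (b + 1)).choose (q + 1) * (q + 1 + b + e).choose (q + 1 + b) : ℕ) : ℚ) by exact_mod_cast h
  push_cast
  rw [hb (q + 1 + e) b, hb (q + 1 + e) (b + 1), hb (q + 1) (b + 1), hb (q + 1 + b) e, hb q e]
  cases e with
  | zero =>
    rw [Nat.choose_eq_zero_of_lt (show q + 0 < q + 1 by omega)]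
    push_cast [Nat.factorial_zero]
    field_simp
    ring
  | succ e =>
    rw [show q + (e + 1) = q + 1 + e by omega, hb (q + 1) e,
      show q + 1 + b + (e + 1) = q + 1 + (e + 1) + b by omega,
      show q + 1 + (e + 1) + (b + 1) = (q + 1 + (e + 1) + b) + 1 by omega,
      show q + 1 + (b + 1) = (q + 1 + b) + 1 by omega,
      Nat.factorial_succ (q + 1 + (e + 1) + b), Nat.factorial_succ (q + 1 + b), Nat.factorial_succ b,
      show q + 1 + (e + 1) = (q + 1 + e) + 1 by omega, Nat.factorial_succ (q + 1 + e),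
      Nat.factorial_succ q, Nat.factorial_succ e]
    push_cast
    field_simp
    ring

/-- `h^0(Ω^p(d))` for `p ≤ d`. -/
theorem om_h0 (d : ℕ) (hd : 1 ≤ d) : ∀ p : ℕ, p ≤ d → p ≤ n →
    Module.Finite k (Coh.HH (CohB1.ProjSpace n k) (Om n k p (d : ℤ)) 0) ∧
      Module.finrank k (Coh.HH (CohB1.ProjSpace n k) (Om n k p (d : ℤ)) 0) =
        (d + n - p).choose d * (d - 1).choose p := by
  intro p
  induction p with
  | zero =>
    intro _ _
    obtain ⟨e⟩ := nonempty_om_zero n k (d : ℤ)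
    obtain ⟨h₁, h₂⟩ := finite_finrank_T n k d
    refine ⟨Module.Finite.equiv (hhIso k e 0).symm, (hhIso k e 0).finrank_eq.trans ?_⟩
    rw [h₂, Nat.choose_zero_right, mul_one, Nat.sub_zero, ← Nat.choose_symm_add]
  | succ p ih =>
    intro hpd hpn
    obtain ⟨S, hS, ⟨e₁⟩, ⟨Z⟩, ⟨e₃⟩⟩ := exists_seq n k p (d : ℤ)
    obtain ⟨hf, hr⟩ := ih (by omega) (by omega)
    have hT := finite_finrank_T n k (d - (p + 1))
    rw [show ((d - (p + 1) : ℕ) : ℤ) = (d : ℤ) - ((p + 1 : ℕ) : ℤ) by omega] at hT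
    haveI := hT.1
    obtain ⟨hf₂, hr₂⟩ := finite_finrank_sum n k Z 0
    haveI := hf₂
    have h1 : Subsingleton (Coh.HH (CohB1.ProjSpace n k) S.X₁ (0 + 1)) :=
      subsingleton_congr n k e₁.symm 1 (om_pos n k (d : ℤ) (by omega) _ (p + 1) 1 rfl one_pos)
    have hmid := finrank_middle k hS 0 (injective_f_zero hS) (surjective_g hS h1)
    haveI : Module.Finite k (Coh.HH (CohB1.ProjSpace n k) S.X₁ 0) :=
      Module.Finite.of_injective (overLin k (hmap S.f 0)) (injective_f_zero hS)
    refine ⟨Module.Finite.equiv (hhIso k e₁ 0), (hhIso k e₁ 0).finrank_eq.symm.trans ?_⟩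
    rw [hr₂, hT.2, (hhIso k e₃ 0).finrank_eq, hr, ← bott_id_zero hpd hpn] at hmid
    omega

theorem om_zero_vanish (d : ℕ) (hd : 1 ≤ d) : ∀ p : ℕ, d ≤ p →
    Subsingleton (Coh.HH (CohB1.ProjSpace n k) (Om n k p (d : ℤ)) 0) := by
  intro p hp
  rcases lt_or_ge n p with h | h
  · exact om_high n k _ h 0
  rcases eq_or_lt_of_le hp with rfl | hlt
  · obtain ⟨hf, hr⟩ := om_h0 n k d hd d le_rfl h
    rw [Nat.choose_eq_zero_of_lt (show d - 1 < d by omega), mul_zero] at hr
    haveI := hf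
    exact Module.finrank_zero_iff.1 hr
  · obtain ⟨q, rfl⟩ : ∃ q, p = q + 1 := ⟨p - 1, by omega⟩
    obtain ⟨S, hS, ⟨e₁⟩, ⟨Z⟩, -⟩ := exists_seq n k q (d : ℤ)
    exact subsingleton_congr n k e₁ 0 (van_left_zero hS (subsingleton_sum Z 0
      (subsingleton_HH_twist n k _ 0 (by omega) (by omega))))

theorem bott_id_top {r q e : ℕ} (he : 1 ≤ e) (hr : q + 1 ≤ r) :
    (e + (q + 1)).choose e * (e - 1).choose (r - (q + 1)) + (e + q).choose e * (e - 1).choose (r - q) =
      (r + 1).choose (q + 1) * (e + q).choose r := by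
  obtain ⟨b, rfl⟩ := Nat.exists_eq_add_of_le hr
  obtain ⟨f, rfl⟩ := Nat.exists_eq_add_of_le he
  rw [show q + 1 + b - (q + 1) = b by omega, show q + 1 + b - q = b + 1 by omega, show 1 + f - 1 = f by omega]
  rcases lt_trichotomy f b with h | rfl | h
  · rw [Nat.choose_eq_zero_of_lt h, Nat.choose_eq_zero_of_lt (show f < b + 1 by omega),
      Nat.choose_eq_zero_of_lt (show 1 + f + q < q + 1 + b by omega)]
    simp
  · rw [Nat.choose_self, Nat.choose_eq_zero_of_lt (show f < f + 1 by omega),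
      show 1 + f + q = q + 1 + f by omega, Nat.choose_self,
      show q + 1 + f + 1 = 1 + f + (q + 1) by omega, ← Nat.choose_symm_add]
    simp
  · obtain ⟨c, rfl⟩ := Nat.exists_eq_add_of_lt h
    have hb : ∀ a b : ℕ, ((a + b).choose a : ℚ) = ((a + b).factorial : ℚ) / (a.factorial * b.factorial) := fun a b => by
      rw [Nat.cast_choose ℚ (Nat.le_add_right a b), Nat.add_sub_cancel_left]
    rw [show 1 + (b + c + 1) + q = (q + 1 + b) + (c + 1) by omega]
    suffices h : (((1 + (b + c + 1) + (q + 1)).choose (1 + (b + c + 1)) * (b + c + 1).choose b +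
        (q + 1 + b + (c + 1)).choose (1 + (b + c + 1)) * (b + c + 1).choose (b + 1) : ℕ) : ℚ) =
        (((q + 1 + b + 1).choose (q + 1) * (q + 1 + b + (c + 1)).choose (q + 1 + b) : ℕ) : ℚ) by exact_mod_cast h
    push_cast
    rw [show q + 1 + b + 1 = q + 1 + (b + 1) by omega, show b + c + 1 = b + (c + 1) by omega, hb b (c + 1),
      show b + (c + 1) = b + 1 + c by omega, hb (b + 1) c, hb (q + 1) (b + 1), hb (q + 1 + b) (c + 1),
      hb (1 + (b + 1 + c)) (q + 1), show q + 1 + b + (c + 1) = (1 + (b + 1 + c)) + q by omega,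
      hb (1 + (b + 1 + c)) q]
    rw [show 1 + (b + 1 + c) + (q + 1) = (1 + (b + 1 + c) + q) + 1 by omega,
      show q + 1 + (b + 1) = (q + 1 + b) + 1 by omega,
      Nat.factorial_succ (1 + (b + 1 + c) + q), Nat.factorial_succ q, Nat.factorial_succ b, Nat.factorial_succ c,
      Nat.factorial_succ (q + 1 + b), show 1 + (b + 1 + c) = (b + 1 + c) + 1 by omega, Nat.factorial_succ (b + 1 + c)]
    push_cast
    field_simp
    ring

/-- `h^n(Ω^p(-e))`. -/
theorem om_top (e : ℕ) (he : 1 ≤ e) : ∀ p : ℕ, p ≤ n →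
    Module.Finite k (Coh.HH (CohB1.ProjSpace n k) (Om n k p (-(e : ℤ))) n) ∧
      Module.finrank k (Coh.HH (CohB1.ProjSpace n k) (Om n k p (-(e : ℤ))) n) =
        (e + p).choose e * (e - 1).choose (n - p) := by
  have hT : ∀ j : ℕ, 1 ≤ j → Module.Finite k (Coh.HH (CohB1.ProjSpace n k) (T n k (-(j : ℤ))) n) ∧
      Module.finrank k (Coh.HH (CohB1.ProjSpace n k) (T n k (-(j : ℤ))) n) = (j - 1).choose n := by
    intro j hj
    rcases lt_or_ge n j with h | h
    · have := finite_finrank_T_top n k (j - n - 1)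
      rw [show -((n : ℤ) + 1 + ((j - n - 1 : ℕ) : ℤ)) = -(j : ℤ) by omega,
        show j - n - 1 + n = j - 1 by omega] at this
      exact this
    · haveI := subsingleton_HH_twist n k (-(j : ℤ)) n (by omega) (by omega)
      exact ⟨inferInstance, by rw [Module.finrank_zero_of_subsingleton, Nat.choose_eq_zero_of_lt (by omega)]⟩
  intro p
  induction p with
  | zero =>
    intro _
    obtain ⟨e'⟩ := nonempty_om_zero n k (-(e : ℤ))
    obtain ⟨h₁, h₂⟩ := hT e he
    refine ⟨Module.Finite.equiv (hhIso k e' n).symm, (hhIso k e' n).finrank_eq.trans ?_⟩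
    rw [h₂, Nat.add_zero, Nat.choose_self, one_mul, Nat.sub_zero]
  | succ p ih =>
    intro hp
    obtain ⟨S, hS, ⟨e₁⟩, ⟨Z⟩, ⟨e₃⟩⟩ := exists_seq n k p (-(e : ℤ))
    obtain ⟨hf, hr⟩ := ih (by omega)
    have hT' := hT (e + (p + 1)) (by omega)
    rw [show -((e + (p + 1) : ℕ) : ℤ) = -(e : ℤ) - ((p + 1 : ℕ) : ℤ) by omega] at hT'
    haveI := hT'.1
    obtain ⟨hf₂, hr₂⟩ := finite_finrank_sum n k Z n
    haveI := hf₂
    obtain ⟨m, hm⟩ : ∃ m, n = m + 1 := ⟨n - 1, by omega⟩
    have hinj : Function.Injective (hmap S.f n) := by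
      have h := injective_f_succ hS (q := m) (subsingleton_congr n k e₃.symm m
        (om_neg n k (-(e : ℤ)) (by omega) p m (by omega)))
      rw [← hm] at h
      exact h
    haveI := qcoh_X n k e₁
    have hsurj := surjective_g hS (q := n)
      (Groth.L16.ProjSpace.subsingleton_HH_of_lt n k S.X₁ (n + 1) (by omega))
    have hmid := finrank_middle k hS n hinj hsurj
    haveI : Module.Finite k (Coh.HH (CohB1.ProjSpace n k) S.X₁ n) :=
      Module.Finite.of_injective (overLin k (hmap S.f n)) hinj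
    refine ⟨Module.Finite.equiv (hhIso k e₁ n), (hhIso k e₁ n).finrank_eq.symm.trans ?_⟩
    rw [hr₂, hT'.2, (hhIso k e₃ n).finrank_eq, hr, show e + (p + 1) - 1 = e + p by omega,
      ← bott_id_top he hp] at hmid
    omega

end Field

end Groth.L15.PnHodge
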