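import Groth.Agent.L16.CohLinear
import Groth.Agent.L16.ProjSpace.AmpleIff
import Groth.Agent.L19.ProjBdl.Basis
import Groth.Agent.L00.TensorRestrict
import Groth.Agent.L17.FinLocBases
import Mathlib.LinearAlgebra.Dimension.Constructions
import Mathlib.LinearAlgebra.FiniteDimensional.Lemmas

/-!
# Cohomology of finite sums and along short exact sequences
-/

set_option autoImplicit false
set_option linter.style.haveILetI false
set_option backward.isDefEq.respectTransparency false

universe u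

open CategoryTheory CategoryTheory.Limits AlgebraicGeometry Opposite TopologicalSpace
open Groth.L16.CohLinear Groth.L00.Tensor
open Groth.L18.Frame (rs ro rs_self)
open Groth.L19.ProjBdl (IsBasisOn lc exists_hom_basis hom_ext_basis)

noncomputable section

namespace Groth.L15.PnHodge

variable {X : Scheme.{u}}

/-- `N` is a sum of `c` copies of `T`. -/
structure SumOf (N T : X.Modules) (c : ℕ) where
  inj : Fin c → (T ⟶ N)
  proj : Fin c → (N ⟶ T)
  inj_proj : ∀ i j, inj i ≫ proj j = if i = j then 𝟙 T else 0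
  total : ∑ j, proj j ≫ inj j = 𝟙 N

theorem nonempty_sumOf_of_iso {N N' T T' : X.Modules} {c : ℕ} (S : SumOf N T c) (e : N ≅ N') (e' : T ≅ T') :
    Nonempty (SumOf N' T' c) := by
  refine ⟨⟨fun i => e'.inv ≫ S.inj i ≫ e.hom, fun j => e.inv ≫ S.proj j ≫ e'.hom, fun i j => ?_, ?_⟩⟩
  · simp only [Category.assoc, Iso.hom_inv_id_assoc]
    rw [← Category.assoc (S.inj i), S.inj_proj]
    split <;> simp
  · calc ∑ j, (e.inv ≫ S.proj j ≫ e'.hom) ≫ e'.inv ≫ S.inj j ≫ e.hom
        = ∑ j, e.inv ≫ ((S.proj j ≫ S.inj j) ≫ e.hom) := Finset.sum_congr rfl fun j _ => by simp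
      _ = e.inv ≫ (∑ j, S.proj j ≫ S.inj j) ≫ e.hom := by
          rw [Preadditive.sum_comp, Preadditive.comp_sum]
      _ = 𝟙 N' := by rw [S.total]; simp

theorem nonempty_sumOf_map {Y : Scheme.{u}} (F : X.Modules ⥤ Y.Modules) [F.Additive] {N T : X.Modules} {c : ℕ}
    (S : SumOf N T c) : Nonempty (SumOf (F.obj N) (F.obj T) c) := by
  refine ⟨⟨fun i => F.map (S.inj i), fun j => F.map (S.proj j), fun i j => ?_, ?_⟩⟩
  · rw [← F.map_comp, S.inj_proj]
    split <;> simp
  · simp only [← F.map_comp]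
    rw [← F.map_sum, S.total, F.map_id]

/-- A module with a global basis is a sum of structure sheaves. -/
theorem nonempty_sumOf_basis {N : X.Modules} {c : ℕ} {b : Fin c → Γ(N, ⊤)} (hb : IsBasisOn N ⊤ b) :
    Nonempty (SumOf N (Coh.structureModule X) c) := by
  classical
  let O := Coh.structureModule X
  let one : Γ(O, ⊤) := show Γ(X, ⊤) from 1
  choose p hp using fun j => exists_hom_basis (N := O) hb le_rfl fun i => if i = j then one else 0
  have hι : ∀ i, (Groth.L16.homOfSection N (b i)).app ⊤ one = b i := fun i =>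
    (Groth.L16.homOfSection_app N (b i) ⊤ _).trans (by
      show (1 : Γ(X, ⊤)) • _ = _
      rw [one_smul]
      exact rs_self N _ _)
  have hext : ∀ φ ψ : O ⟶ O, φ.app ⊤ one = ψ.app ⊤ one → φ = ψ := fun φ ψ h => by
    refine Scheme.Modules.hom_ext _ _ fun W => ConcreteCategory.hom_ext _ _ fun r => ?_
    exact (Groth.L16.hom_app_eq_smul φ W r).trans ((congrArg (fun z => r • rs O le_top z) h).trans
      (Groth.L16.hom_app_eq_smul ψ W r).symm)
  refine ⟨⟨fun i => Groth.L16.homOfSection N (b i), p, fun i j => hext _ _ ?_, ?_⟩⟩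
  · show (p j).app ⊤ ((Groth.L16.homOfSection N (b i)).app ⊤ one) = _
    rw [hι, hp]
    split_ifs <;> rfl
  · refine hom_ext_basis hb le_rfl _ _ fun i => ?_
    rw [Groth.L17.FinLocBases.app_sum]
    refine (Finset.sum_eq_single i (fun j _ hj => ?_) (by simp)).trans ?_
    · show (Groth.L16.homOfSection N (b j)).app ⊤ ((p j).app ⊤ (b i)) = 0
      rw [hp, if_neg (Ne.symm hj), map_zero]
    · show (Groth.L16.homOfSection N (b i)).app ⊤ ((p i).app ⊤ (b i)) = b i
      rw [hp, if_pos rfl, hι]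

section HH

variable (A : Type u) [CommRing A] [X.Over (Spec (CommRingCat.of A))]

/-- An isomorphism of modules on cohomology. -/
def hhIso {M N : X.Modules} (e : M ≅ N) (q : ℕ) : Coh.HH X M q ≃ₗ[A] Coh.HH X N q :=
  LinearEquiv.ofLinear (overLin A (hmap e.hom q)) (overLin A (hmap e.inv q))
    (LinearMap.ext fun x => (hmap_comp e.inv e.hom q x).symm.trans (by rw [e.inv_hom_id]; exact hmap_id q x))
    (LinearMap.ext fun x => (hmap_comp e.hom e.inv q x).symm.trans (by rw [e.hom_inv_id]; exact hmap_id q x))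

theorem hmap_sum {M N : X.Modules} {ι : Type*} (s : Finset ι) (f : ι → (M ⟶ N)) (q : ℕ) (x : Coh.HH X M q) :
    hmap (∑ j ∈ s, f j) q x = ∑ j ∈ s, hmap (f j) q x := by
  rw [hmap_apply, tm, Functor.map_sum, hMap_sum]
  rfl

theorem hmap_zero' {M N : X.Modules} (q : ℕ) (x : Coh.HH X M q) : hmap (0 : M ⟶ N) q x = 0 := by
  simpa using hmap_sum (∅ : Finset PUnit.{1}) (fun _ => (0 : M ⟶ N)) q x

/-- Cohomology of a sum. -/
theorem nonempty_hh_sum {N T : X.Modules} {c : ℕ} (S : SumOf N T c) (q : ℕ) :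
    Nonempty (Coh.HH X N q ≃ₗ[A] (Fin c → Coh.HH X T q)) := by
  classical
  refine ⟨LinearEquiv.ofLinear (LinearMap.pi fun j => overLin A (hmap (S.proj j) q))
    (∑ j, (overLin A (hmap (S.inj j) q)).comp (LinearMap.proj j)) ?_ ?_⟩
  · refine LinearMap.ext fun x => funext fun j => ?_
    simp only [LinearMap.comp_apply, LinearMap.sum_apply, LinearMap.pi_apply, LinearMap.id_apply, map_sum]
    change ∑ i, hmap (S.proj j) q (hmap (S.inj i) q (x i)) = x j
    simp only [← hmap_comp, S.inj_proj]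
    rw [Finset.sum_eq_single j (fun i _ hi => by rw [if_neg hi, hmap_zero']) (by simp), if_pos rfl, hmap_id]
  · refine LinearMap.ext fun x => ?_
    simp only [LinearMap.comp_apply, LinearMap.sum_apply, LinearMap.id_apply, LinearMap.proj_apply,
      LinearMap.pi_apply]
    change ∑ i, hmap (S.inj i) q (hmap (S.proj i) q x) = x
    simp only [← hmap_comp]
    rw [← hmap_sum, S.total, hmap_id]

theorem subsingleton_sum {N T : X.Modules} {c : ℕ} (S : SumOf N T c) (q : ℕ)
    (h : Subsingleton (Coh.HH X T q)) : Subsingleton (Coh.HH X N q) := by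
  refine subsingleton_of_forall_eq 0 fun x => ?_
  rw [← hmap_id q x, ← S.total, hmap_sum]
  refine Finset.sum_eq_zero fun j _ => ?_
  rw [hmap_comp, Subsingleton.elim (hmap (S.proj j) q x) 0, map_zero]

variable {A} {S : ShortComplex X.Modules} (hS : S.ShortExact)

include hS

theorem injective_f_zero : Function.Injective (hmap S.f 0) := by
  haveI := (abS_shortExact hS).mono_f
  intro x y hxy
  obtain ⟨g, rfl⟩ := (Abelian.Ext.mk₀_bijective _ _).2 x
  obtain ⟨g', rfl⟩ := (Abelian.Ext.mk₀_bijective _ _).2 y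
  have h := hxy
  change (Abelian.Ext.mk₀ g).comp (Abelian.Ext.mk₀ (tm S.f)) (add_zero 0) =
    (Abelian.Ext.mk₀ g').comp (Abelian.Ext.mk₀ (tm S.f)) (add_zero 0) at h
  rw [Abelian.Ext.mk₀_comp_mk₀, Abelian.Ext.mk₀_comp_mk₀] at h
  exact congrArg _ ((cancel_mono (abS S).f).1 ((Abelian.Ext.mk₀_bijective _ _).1 h))

theorem van_left_zero (h₂ : Subsingleton (Coh.HH X S.X₂ 0)) : Subsingleton (Coh.HH X S.X₁ 0) :=
  (injective_f_zero hS).subsingleton

theorem van_left {q : ℕ} (h₃ : Subsingleton (Coh.HH X S.X₃ q)) (h₂ : Subsingleton (Coh.HH X S.X₂ (q + 1))) :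
    Subsingleton (Coh.HH X S.X₁ (q + 1)) := by
  refine subsingleton_of_forall_eq 0 fun x => ?_
  obtain ⟨y, rfl⟩ := (exact_delta_hmap hS q x).1 (Subsingleton.elim _ _)
  rw [Subsingleton.elim y 0, map_zero]

theorem van_right {q : ℕ} (h₂ : Subsingleton (Coh.HH X S.X₂ q)) (h₁ : Subsingleton (Coh.HH X S.X₁ (q + 1))) :
    Subsingleton (Coh.HH X S.X₃ q) := by
  refine subsingleton_of_forall_eq 0 fun x => ?_
  obtain ⟨y, rfl⟩ := (exact_hmap_delta hS q x).1 (Subsingleton.elim _ _)
  rw [Subsingleton.elim y 0, map_zero]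

variable (A)

theorem nonempty_delta_equiv {q : ℕ} (h₂ : Subsingleton (Coh.HH X S.X₂ q))
    (h₂' : Subsingleton (Coh.HH X S.X₂ (q + 1))) :
    Nonempty (Coh.HH X S.X₃ q ≃ₗ[A] Coh.HH X S.X₁ (q + 1)) := by
  refine ⟨LinearEquiv.ofBijective (overLin A (delta hS q)) ⟨?_, fun x => ?_⟩⟩
  · rw [← LinearMap.ker_eq_bot, LinearMap.ker_eq_bot']
    intro x hx
    obtain ⟨y, rfl⟩ := (exact_hmap_delta hS q x).1 hx
    rw [Subsingleton.elim y 0, map_zero]
  · exact (exact_delta_hmap hS q x).1 (Subsingleton.elim _ _)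

end HH

section Field

variable (k : Type u) [Field k] [X.Over (Spec (CommRingCat.of k))] {S : ShortComplex X.Modules} (hS : S.ShortExact)

include hS

/-- A short exact degree of the long exact sequence. -/
theorem finrank_middle (q : ℕ) (hinj : Function.Injective (hmap S.f q))
    (hsurj : Function.Surjective (hmap S.g q)) [Module.Finite k (Coh.HH X S.X₂ q)] :
    Module.finrank k (Coh.HH X S.X₂ q) = Module.finrank k (Coh.HH X S.X₁ q) + Module.finrank k (Coh.HH X S.X₃ q) := by
  let f := overLin k (hmap S.f q)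
  let g := overLin k (hmap S.g q)
  have hfg : Function.Exact f g := exact_hmap_hmap hS q
  have h := LinearMap.finrank_range_add_finrank_ker g
  rw [LinearMap.exact_iff.1 hfg, LinearMap.finrank_range_of_inj (f := f) hinj,
    LinearMap.range_eq_top.2 (show Function.Surjective g from hsurj), finrank_top] at h
  rw [← h, add_comm]

theorem injective_f_succ {q : ℕ} (h₃ : Subsingleton (Coh.HH X S.X₃ q)) :
    Function.Injective (hmap S.f (q + 1)) := by
  rw [injective_iff_map_eq_zero]
  intro x hx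
  obtain ⟨y, rfl⟩ := (exact_delta_hmap hS q x).1 hx
  rw [Subsingleton.elim y 0, map_zero]

theorem surjective_g {q : ℕ} (h₁ : Subsingleton (Coh.HH X S.X₁ (q + 1))) :
    Function.Surjective (hmap S.g q) := fun x => (exact_hmap_delta hS q x).1 (Subsingleton.elim _ _)

end Field

end Groth.L15.PnHodge
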