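import Groth.Agent.L15.PnHodge.Euler
import Groth.Agent.L15.PnHodge.ExtSeq
import Groth.Agent.L15.PnHodge.SumCoh
import Groth.Agent.L12.ExtSh.Pullback
import Groth.Agent.L12.ExtSh.TensorLine
import Groth.Agent.L03.Euler.Twist
import Groth.Agent.L16.ProjSpace.TwistMul
import Groth.Agent.L12.FinCov.Basis

/-!
# The twisted exterior powers of the differentials of projective space
-/

set_option autoImplicit false
set_option linter.style.haveILetI false
set_option backward.isDefEq.respectTransparency false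
set_option backward.isDefEq.respectTransparency.types false

universe u

open CategoryTheory CategoryTheory.Limits AlgebraicGeometry TopologicalSpace Opposite
open Groth.L12.ExtSh Groth.L00.Tensor
open Groth.L19.ProjBdl (IsBasisOn isBasisOn_of_iso)
open Groth.L22.Adjunction (DO dr isBasisS_dr OP)

noncomputable section

namespace Groth.L15.PnHodge

variable (n : ℕ) (A : Type u) [CommRing A] [QuasiSeparated (CohB1.ProjSpace.toSpec n A)]

/-- `O(d)`. -/
abbrev T (d : ℤ) : (CohB1.ProjSpace n A).Modules := Twist.twistProjSpace n A d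

omit [QuasiSeparated (CohB1.ProjSpace.toSpec n A)] in
theorem cover : ∀ x : Proj (CohB1.polyGrading n A),
    ∃ f : CohB1.polyGrading n A 1, x ∈ Proj.basicOpen (CohB1.polyGrading n A) f.1 := fun x => by
  obtain ⟨i, hi⟩ := Groth.L16.ProjSpace.exists_mem_basicOpen_X n A x
  exact ⟨Groth.L16.ProjSpace.Xd n A i, hi⟩

omit [QuasiSeparated (CohB1.ProjSpace.toSpec n A)] in
theorem T_add (a b c : ℤ) (h : a + b = c) : Nonempty (CohB1.tensorMod (T n A a) (T n A b) ≅ T n A c) := by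
  subst h
  exact Groth.L16.ProjTwist.nonempty_tensor_twist_iso_one (CohB1.polyGrading n A) (cover n A) a b

omit [QuasiSeparated (CohB1.ProjSpace.toSpec n A)] in
theorem T_zero : Nonempty (T n A 0 ≅ Coh.structureModule (CohB1.ProjSpace n A)) :=
  Groth.L16.ProjTwist.nonempty_twist_zero_iso (CohB1.polyGrading n A)

theorem rank_omega : FlatMod.IsFinLocFreeOfRank n (OP n A) :=
  Groth.L12.FinCov.isFinLocFreeOfRank_of_bases fun x => by
    obtain ⟨i, hi⟩ := Groth.L16.ProjSpace.exists_mem_basicOpen_X n A x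
    exact ⟨DO n A i, dr n A i, hi, fun V hV => isBasisS_dr n A i V hV⟩

instance qcoh_omega : Coh.IsQCoh (OP n A) := isQCoh_of_locFree (locFree_of_rank (rank_omega n A))

/-- `Ω^p`. -/
abbrev Wp (p : ℕ) : (CohB1.ProjSpace n A).Modules := wedgeMod (OP n A) p

/-- `Ω^p(d)`. -/
abbrev Om (p : ℕ) (d : ℤ) : (CohB1.ProjSpace n A).Modules := CohB1.tensorMod (Wp n A p) (T n A d)

theorem nonempty_iso_of_hodge {p : ℕ} {L : (CohB1.ProjSpace n A).Modules}
    (hL : ExtPow.IsExtPow p (Omega.sheaf (CohB1.ProjSpace.toSpec n A)) L) :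
    Nonempty (L ≅ Om n A p 0) := by
  obtain ⟨e⟩ := nonempty_iso_of_isExtPow hL (isExtPow_wedgeMod (OP n A) p)
  obtain ⟨z⟩ := T_zero n A
  exact ⟨e ≪≫ (tensorUnitRight _).symm ≪≫ tensorIso (Iso.refl _) z.symm⟩

theorem nonempty_iso_of_hodge_twist {p : ℕ} {L : (CohB1.ProjSpace n A).Modules}
    (hL : ExtPow.IsExtPow p (Omega.sheaf (CohB1.ProjSpace.toSpec n A)) L) (d : ℤ) :
    Nonempty (CohB1.tensorMod L (T n A d) ≅ Om n A p d) := by
  obtain ⟨e⟩ := nonempty_iso_of_isExtPow hL (isExtPow_wedgeMod (OP n A) p)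
  exact ⟨tensorIso e (Iso.refl _)⟩

theorem nonempty_om_zero (d : ℤ) : Nonempty (Om n A 0 d ≅ T n A d) := by
  obtain ⟨e⟩ := nonempty_iso_of_isExtPow (isExtPow_wedgeMod (OP n A) 0) (isExtPow_zero' (OP n A))
  exact ⟨tensorIso e (Iso.refl _) ≪≫ tensorUnitLeft _⟩

theorem isZero_om {p : ℕ} (d : ℤ) (h : n < p) : IsZero (Om n A p d) :=
  Functor.map_isZero (tensorRightF (T n A d)) (isZero_wedge (rank_omega n A) (isExtPow_wedgeMod (OP n A) p) h)

/-- The trivial bundle of rank `n + 1`. -/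
abbrev E0 : (CohB1.ProjSpace n A).Modules :=
  (Scheme.Modules.pullback (CohB1.ProjSpace.toSpec n A)).obj (FlatMod.freeMod (Spec (CommRingCat.of A)) (n + 1))

omit [QuasiSeparated (CohB1.ProjSpace.toSpec n A)] in
theorem rank_E0 : FlatMod.IsFinLocFreeOfRank (n + 1) (E0 n A) :=
  Groth.L12.FinCov.isFinLocFreeOfRank_of_bases fun _ => ⟨(CohB1.ProjSpace.toSpec n A) ⁻¹ᵁ ⊤, _, trivial, (isBasisOn_b₀ n A).pullback _⟩

omit [QuasiSeparated (CohB1.ProjSpace.toSpec n A)] in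
theorem exists_sum_wedge (m : ℕ) {M : (CohB1.ProjSpace n A).Modules} (hM : ExtPow.IsExtPow m (E0 n A) M) :
    Nonempty (SumOf M (Coh.structureModule (CohB1.ProjSpace n A)) ((n + 1).choose m)) := by
  let F := FlatMod.freeMod (Spec (CommRingCat.of A)) (n + 1)
  have hF : FlatMod.IsFinLocFree F :=
    fun y => ((Groth.L18.QuotChart.isFinLocFreeOfRank_free _ (n + 1)) y).imp fun O h => ⟨n + 1, h⟩
  haveI := isQCoh_of_locFree hF
  obtain ⟨φ, hφ⟩ := isExtPow_wedgeMod F m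
  obtain ⟨ks⟩ := Groth.L18.PlkAlg.exists_enum m (n + 1)
  have hb := isBasisOn_extPow φ hφ (U := ⟨⊤, isAffineOpen_top (Spec (CommRingCat.of A))⟩) (isBasisOn_b₀ n A) ks
  obtain ⟨e⟩ := nonempty_pullback_extPow_iso (CohB1.ProjSpace.toSpec n A) hF (isExtPow_wedgeMod F m) hM
  exact nonempty_sumOf_basis (isBasisOn_of_iso e (hb.pullback (CohB1.ProjSpace.toSpec n A)))

/-- `0 → Ω^{p+1}(d) → O(d-p-1)^C → Ω^p(d) → 0`. -/
theorem exists_seq (p : ℕ) (d : ℤ) :
    ∃ S : ShortComplex (CohB1.ProjSpace n A).Modules, S.ShortExact ∧ Nonempty (S.X₁ ≅ Om n A (p + 1) d) ∧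
      Nonempty (SumOf S.X₂ (T n A (d - (p + 1 : ℕ))) ((n + 1).choose (p + 1))) ∧
      Nonempty (S.X₃ ≅ Om n A p d) := by
  obtain ⟨e⟩ := nonempty_kernel_iso n A
  let Ω1 := CohB1.tensorMod (OP n A) (L1 n A)
  have hL1 : PicF.IsInvertible (L1 n A) := Groth.L16.ProjTwist.isInvertible_twistProjSpace n A ((1 : ℕ) : ℤ)
  have hL1r : FlatMod.IsFinLocFreeOfRank 1 (L1 n A) :=
    Groth.L19.ProjBdl.isFinLocFreeOfRank_one_of_frames fun x => by
      obtain ⟨i, hi⟩ := Groth.L16.ProjSpace.exists_mem_basicOpen_X n A x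
      exact ⟨Groth.L16.ProjSpace.dOpen n A i, _, hi, Groth.L16.ProjSpace.isFrame_xsec n A i⟩
  let S : ShortComplex (CohB1.ProjSpace n A).Modules :=
    ShortComplex.mk (e.hom ≫ kernel.ι (eulerU n A)) (eulerU n A) (by simp)
  have hS : S.ShortExact := ShortComplex.shortExact_of_iso
    (ShortComplex.isoMk (S₁ := eulerSeq n A) (S₂ := S) e.symm (Iso.refl _) (Iso.refl _) (by simp [S, eulerSeq]) (by simp [S, eulerSeq]))
    (eulerSeq_shortExact n A)
  have h₂ := locFree_of_rank (rank_E0 n A)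
  have hΩ1 : FlatMod.IsFinLocFree Ω1 :=
    Groth.L29.DC.isFinLocFree_tensor (locFree_of_rank (rank_omega n A)) (locFree_of_rank hL1r)
  haveI : Coh.IsQCoh Ω1 := isQCoh_of_locFree hΩ1
  haveI : Coh.IsQCoh (E0 n A) := isQCoh_of_locFree h₂
  obtain ⟨U, hU, ⟨u₁⟩, ⟨u₂⟩, ⟨u₃⟩⟩ := exists_extPow_seq hS hΩ1 h₂ hL1r p
    (isExtPow_wedgeMod Ω1 (p + 1)) (isExtPow_wedgeMod Ω1 p) (isExtPow_wedgeMod (E0 n A) (p + 1))
  let d' : ℤ := d - (p + 1 : ℕ)
  have hQ : ∀ m : ℕ, Nonempty (wedgeMod Ω1 m ≅ CohB1.tensorMod (Wp n A m) (T n A (m : ℤ))) := fun m => by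
    obtain ⟨a⟩ := nonempty_extPow_tensor_iso hL1 (isExtPow_wedgeMod Ω1 m) (isExtPow_wedgeMod (OP n A) m)
    obtain ⟨b⟩ := Groth.L16.ProjTwist.nonempty_twist_iso_tensorPow (CohB1.polyGrading n A) (cover n A) m
    exact ⟨a ≪≫ tensorIso (Iso.refl _) b.symm⟩
  haveI : PreservesBinaryBiproducts (tensorRightF (T n A d')) :=
    preservesBinaryBiproducts_of_preservesBinaryCoproducts _
  haveI : (tensorRightF (T n A d')).Additive := Functor.additive_of_preservesBinaryBiproducts _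
  refine ⟨_, Groth.L03.Euler.shortExact_tensor (Groth.L16.ProjTwist.isInvertible_twistProjSpace n A d') hU,
    ?_, ?_, ?_⟩
  · obtain ⟨a⟩ := hQ (p + 1)
    obtain ⟨b⟩ := T_add n A ((p + 1 : ℕ) : ℤ) d' d (by simp [d'])
    exact ⟨tensorIso (u₁ ≪≫ a) (Iso.refl _) ≪≫ tensorAssoc _ _ _ ≪≫ tensorIso (Iso.refl _) b⟩
  · obtain ⟨Z⟩ := exists_sum_wedge n A (p + 1) (isExtPow_wedgeMod (E0 n A) (p + 1))
    obtain ⟨Z'⟩ := nonempty_sumOf_map (tensorRightF (T n A d')) Z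
    exact nonempty_sumOf_of_iso Z' (tensorIso u₂.symm (Iso.refl _)) (tensorUnitLeft _)
  · obtain ⟨a⟩ := hQ p
    obtain ⟨b⟩ := T_add n A ((1 : ℕ) : ℤ) d' (d - p) (by simp [d']; ring)
    obtain ⟨c⟩ := T_add n A (p : ℤ) (d - p) d (by ring)
    exact ⟨tensorIso (u₃ ≪≫ tensorIso a (Iso.refl _)) (Iso.refl _) ≪≫ tensorAssoc _ _ _ ≪≫ tensorAssoc _ _ _ ≪≫
      tensorIso (Iso.refl _) (tensorIso (Iso.refl _) b ≪≫ c)⟩

end Groth.L15.PnHodge
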